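import Mathlib

/-!
# Central extensions from a Cayley graph: kernel checks and elimination

The group `G` is given by a Cayley graph on `nV` vertices for two generators (`nx v g` is the vertex
reached from `v` by the generator `g`), with a spanning tree and a list of closed words (relators).
A central extension `Y` of `G` with kernel `K` of exponent dividing `M` gives a central element for
every edge.  A table gives, for every edge and relator, a vector of four exponents and an order of
elimination, and is checked by the kernel.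
-/

set_option autoImplicit false

namespace Cfsg.Agent.Lib.SchurCert.Elim

open Subgroup

/-! ### Walks -/

section Walk

variable (nx : Nat → Nat → Nat)

/-- The end of a walk. -/
noncomputable def wEnd (w : List Nat) : Nat → Nat :=
  List.rec (motive := fun _ => Nat → Nat) (fun v => v) (fun g _ ih v => ih (nx v g)) w

/-- The sum of a function over the edges of a walk. -/
noncomputable def wSum (f : Nat → Nat) (w : List Nat) : Nat → Nat :=
  List.rec (motive := fun _ => Nat → Nat) (fun _ => 0)
    (fun g _ ih v => Nat.add (f (Nat.add (Nat.mul 2 v) g)) (ih (nx v g))) w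

/-- The number of occurrences of an edge in a walk. -/
noncomputable def wCount (x : Nat) (w : List Nat) : Nat → Nat :=
  List.rec (motive := fun _ => Nat → Nat) (fun _ => 0)
    (fun g _ ih v => Nat.add (cond (Nat.beq (Nat.add (Nat.mul 2 v) g) x) 1 0) (ih (nx v g))) w

/-- All edges of a walk other than `x` have rank below `r`. -/
noncomputable def wLow (rk : Nat → Nat) (x r : Nat) (w : List Nat) : Nat → Bool :=
  List.rec (motive := fun _ => Nat → Bool) (fun _ => true)
    (fun g _ (ih : Nat → Bool) v =>
      (Nat.beq (Nat.add (Nat.mul 2 v) g) x || Nat.blt (rk (Nat.add (Nat.mul 2 v) g)) r) && ih (nx v g)) w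

/-- The edges of a walk. -/
def edgesOf : List Nat → Nat → List Nat
  | [], _ => []
  | g :: w, v => Nat.add (Nat.mul 2 v) g :: edgesOf w (nx v g)

theorem wEnd_nil (v : Nat) : wEnd nx [] v = v := rfl
theorem wEnd_cons (g : Nat) (w : List Nat) (v : Nat) : wEnd nx (g :: w) v = wEnd nx w (nx v g) := rfl

theorem wSum_eq (f : Nat → Nat) (w : List Nat) (v : Nat) : wSum nx f w v = ((edgesOf nx w v).map f).sum := by
  induction w generalizing v with
  | nil => rfl
  | cons g w ih =>
    simp only [edgesOf, List.map_cons, List.sum_cons, ← ih]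
    rfl

theorem wCount_eq (x : Nat) (w : List Nat) (v : Nat) : wCount nx x w v = (edgesOf nx w v).count x := by
  induction w generalizing v with
  | nil => rfl
  | cons g w ih =>
    rw [edgesOf, List.count_cons, ← ih]
    show Nat.add (cond (Nat.beq (Nat.add (Nat.mul 2 v) g) x) 1 0) (wCount nx x w (nx v g)) = _
    by_cases h : Nat.add (Nat.mul 2 v) g = x
    · subst h
      rw [Nat.beq_refl]
      simp
      omega
    · have h2 : Nat.beq (Nat.add (Nat.mul 2 v) g) x = false := by
        cases h3 : Nat.beq (Nat.add (Nat.mul 2 v) g) x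
        · rfl
        · exact absurd (Nat.eq_of_beq_eq_true h3) h
      rw [h2]
      have h' : ¬ 2 * v + g = x := h
      simp [h']

theorem wLow_spec (rk : Nat → Nat) (x r : Nat) (w : List Nat) (v : Nat) (h : wLow nx rk x r w v = true) :
    ∀ y ∈ edgesOf nx w v, y ≠ x → rk y < r := by
  induction w generalizing v with
  | nil =>
    intro y hy
    simp [edgesOf] at hy
  | cons g w ih =>
    have h' : ((Nat.beq (Nat.add (Nat.mul 2 v) g) x || Nat.blt (rk (Nat.add (Nat.mul 2 v) g)) r) &&
      wLow nx rk x r w (nx v g)) = true := h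
    simp only [Bool.and_eq_true, Bool.or_eq_true] at h'
    intro y hy hne
    simp only [edgesOf, List.mem_cons] at hy
    rcases hy with rfl | hy
    · rcases h'.1 with h1 | h1
      · exact absurd (Nat.eq_of_beq_eq_true h1) hne
      · exact Nat.blt_eq.mp h1
    · exact ih (nx v g) h'.2 y hy hne

theorem edgesOf_lt {nV : Nat} (hnx : ∀ v g, v < nV → g < 2 → nx v g < nV) {w : List Nat} (hw : ∀ g ∈ w, g < 2) :
    ∀ {v : Nat}, v < nV → ∀ e ∈ edgesOf nx w v, e < 2 * nV := by
  induction w with
  | nil =>
    intro v _ e he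
    simp [edgesOf] at he
  | cons g w ih =>
    intro v hv e he
    simp only [edgesOf, List.mem_cons] at he
    have hg := hw g List.mem_cons_self
    rcases he with rfl | he
    · show 2 * v + g < _
      omega
    · exact ih (fun g' hg' => hw g' (List.mem_cons_of_mem _ hg')) (hnx v g hv hg) e he

end Walk

/-! ### The table -/

/-- A field of a packed number. -/
def fld (i n : Nat) : Nat := Nat.land (Nat.shiftRight n (Nat.mul 8 i)) 255

/-- The rank. -/
def rkOf (n : Nat) : Nat := Nat.land (Nat.shiftRight n 32) 1048575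

/-- The vertex of the equation. -/
def eqV (n : Nat) : Nat := Nat.shiftRight n 58

/-- The relator of the equation. -/
def eqJ (n : Nat) : Nat := Nat.land (Nat.shiftRight n 52) 63

/-- Parent. -/
def parV (par : Nat → Nat) (v : Nat) : Nat := Nat.shiftRight (par v) 1

/-- Generator to the parent. -/
def pgV (par : Nat → Nat) (v : Nat) : Nat := Nat.land (par v) 1

theorem pgV_lt (par : Nat → Nat) (v : Nat) : pgV par v < 2 := by
  have h : Nat.land (par v) 1 = par v % 2 := by
    show par v &&& 1 = _
    exact Nat.and_one_is_mod _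
  unfold pgV
  rw [h]
  omega

section Table

variable (nV nR M : Nat) (nx : Nat → Nat → Nat) (par : Nat → Nat) (dat : Nat → Nat) (rel : Nat → List Nat)
  (p0 p1 p2 p3 : Nat)

/-- The equations of one field. -/
noncomputable def sumOK (i v j : Nat) (w : List Nat) : Bool :=
  Nat.beq (Nat.mod (wSum nx (fun y => fld i (dat y)) w v) M)
    (Nat.mod (fld i (dat (Nat.add (Nat.mul 2 nV) j))) M)

/-- The check of an equation. -/
noncomputable def eqnCore (x r v j : Nat) (w : List Nat) : Bool :=
  Nat.blt v nV && Nat.blt j nR && Nat.beq (wEnd nx w v) v &&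
    sumOK nV M nx dat 0 v j w && sumOK nV M nx dat 1 v j w && sumOK nV M nx dat 2 v j w && sumOK nV M nx dat 3 v j w &&
    (cond (Nat.beq x (Nat.add (Nat.mul 2 nV) j)) (Nat.beq (wCount nx x w v) 0)
      (Nat.beq (wCount nx x w v) 1 && Nat.blt (rkOf (dat (Nat.add (Nat.mul 2 nV) j))) r)) &&
    wLow nx (fun y => rkOf (dat y)) x r w v

/-- The check of an equation, from the table. -/
noncomputable def eqnOK (x : Nat) : Bool :=
  eqnCore nV nR M nx dat x (rkOf (dat x)) (eqV (dat x)) (eqJ (dat x)) (rel (eqJ (dat x)))

/-- The vector of a table entry. -/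
def vecIs (n a b c d : Nat) : Bool :=
  Nat.beq (fld 0 n) a && Nat.beq (fld 1 n) b && Nat.beq (fld 2 n) c && Nat.beq (fld 3 n) d

/-- The check of a base variable given by the tree. -/
def treeOK (x y : Nat) : Bool :=
  !(Nat.beq y 0) && Nat.beq x (Nat.add (Nat.mul 2 (parV par y)) (pgV par y)) && vecIs (dat x) 0 0 0 0

/-- The check of a base variable given by a relator. -/
def relBaseOK (j n : Nat) : Bool :=
  (Nat.blt j 2 && vecIs n 0 0 0 0) || (Nat.beq j p0 && vecIs n 1 0 0 0) || (Nat.beq j p1 && vecIs n 0 1 0 0) ||
    (Nat.beq j p2 && vecIs n 0 0 1 0) || (Nat.beq j p3 && vecIs n 0 0 0 1)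

/-- The check of a base variable. -/
def baseOK (x : Nat) : Bool :=
  cond (Nat.blt x (Nat.mul 2 nV))
    (treeOK par dat x (nx (Nat.shiftRight x 1) (Nat.land x 1)))
    (relBaseOK p0 p1 p2 p3 (Nat.sub x (Nat.mul 2 nV)) (dat x))

/-- The check of a variable. -/
noncomputable def varOK (x : Nat) : Bool :=
  !(Nat.blt x (Nat.add (Nat.mul 2 nV) nR)) || baseOK nV nx par dat p0 p1 p2 p3 x || eqnOK nV nR M nx dat rel x

end Table

/-- Everything the kernel has to check. -/
structure Cert (nV nR M : Nat) (nx : Nat → Nat → Nat) (par : Nat → Nat) (dat : Nat → Nat) (rel : Nat → List Nat)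
    (p0 p1 p2 p3 : Nat) : Prop where
  hnV : 0 < nV
  hnR : 2 ≤ nR
  nx_lt : ∀ v g, v < nV → g < 2 → nx v g < nV
  tree : ∀ v, 0 < v → v < nV → parV par v < v ∧ nx (parV par v) (pgV par v) = v
  rel_lt : ∀ j, j < nR → ∀ g ∈ rel j, g < 2
  rel_loop : ∀ j, j < nR → wEnd nx (rel j) 0 = 0
  var : ∀ x, x < 2 * nV + nR → varOK nV nR M nx par dat rel p0 p1 p2 p3 x = true

/-! ### Algebra of the system -/

section Algebra

variable {A : Type*} [CommGroup A]

/-- Evaluation of a packed vector. -/
def ev (p : Nat → A) (n : Nat) : A :=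
  p 0 ^ fld 0 n * p 1 ^ fld 1 n * p 2 ^ fld 2 n * p 3 ^ fld 3 n

/-- Evaluation of four exponents. -/
def ev4 (p : Nat → A) (a b c d : Nat) : A := p 0 ^ a * p 1 ^ b * p 2 ^ c * p 3 ^ d

theorem ev4_add (p : Nat → A) (a b c d a' b' c' d' : Nat) :
    ev4 p (a + a') (b + b') (c + c') (d + d') = ev4 p a b c d * ev4 p a' b' c' d' := by
  unfold ev4
  simp only [pow_add, mul_assoc, mul_left_comm, mul_comm]

theorem prod_ev (p : Nat → A) (f : Nat → Nat) (L : List Nat) :
    (L.map (fun y => ev p (f y))).prod =
      ev4 p (L.map (fun y => fld 0 (f y))).sum (L.map (fun y => fld 1 (f y))).sum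
        (L.map (fun y => fld 2 (f y))).sum (L.map (fun y => fld 3 (f y))).sum := by
  induction L with
  | nil => simp [ev4]
  | cons y L ih =>
    simp only [List.map_cons, List.prod_cons, List.sum_cons, ih]
    unfold ev ev4
    simp only [pow_add, mul_assoc, mul_left_comm, mul_comm]

theorem prod_isolate (δ : Nat → A) (x : Nat) (L : List Nat) (hL : ∀ y ∈ L, y ≠ x → δ y = 1) :
    (L.map δ).prod = δ x ^ L.count x := by
  induction L with
  | nil => simp
  | cons y L ih =>
    have ih' := ih (fun z hz => hL z (List.mem_cons_of_mem _ hz))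
    rw [List.map_cons, List.prod_cons, ih', List.count_cons]
    by_cases hy : y = x
    · subst hy
      simp [pow_succ']
    · rw [hL y List.mem_cons_self hy]
      simp [hy]

end Algebra

/-! ### The elimination -/

section Solve

variable {A : Type*} [CommGroup A]
variable {nV nR M : Nat} {nx : Nat → Nat → Nat} {par : Nat → Nat} {dat : Nat → Nat} {rel : Nat → List Nat}
  {p0 p1 p2 p3 : Nat}

/-- The elimination: every variable has the value given by the table. -/
theorem solve (C : Cert nV nR M nx par dat rel p0 p1 p2 p3) (hM : ∀ a : A, a ^ M = 1) (kv : Nat → A) (p : Nat → A)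
    (hbase : ∀ x, baseOK nV nx par dat p0 p1 p2 p3 x = true → kv x = ev p (dat x))
    (heq : ∀ v j, v < nV → j < nR → wEnd nx (rel j) v = v →
      kv (2 * nV + j) = ((edgesOf nx (rel j) v).map kv).prod) :
    ∀ x, x < 2 * nV + nR → kv x = ev p (dat x) := by
  have hMpow : ∀ (a : A) (m n : Nat), Nat.mod m M = Nat.mod n M → a ^ m = a ^ n := by
    intro a m n h
    have h2 : orderOf a ∣ M := orderOf_dvd_of_pow_eq_one (hM a)
    exact pow_eq_pow_iff_modEq.mpr (Nat.ModEq.of_dvd h2 h)
  intro x
  induction' hr : rkOf (dat x) using Nat.strong_induction_on with r ih generalizing x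
  intro hx
  have h1 := C.var x hx
  have h5 : Nat.blt x (Nat.add (Nat.mul 2 nV) nR) = true := Nat.blt_eq.mpr hx
  simp only [varOK, h5, Bool.not_true, Bool.false_or, Bool.or_eq_true] at h1
  rcases h1 with h1 | h1
  · exact hbase x h1
  · unfold eqnOK eqnCore at h1
    set v := eqV (dat x) with hv
    set j := eqJ (dat x) with hj
    simp only [Bool.and_eq_true] at h1
    obtain ⟨⟨⟨⟨⟨⟨⟨⟨h6, h7⟩, h8⟩, s0⟩, s1⟩, s2⟩, s3⟩, h10⟩, h11⟩ := h1
    have hvlt : v < nV := Nat.blt_eq.mp h6
    have hjlt : j < nR := Nat.blt_eq.mp h7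
    have hend : wEnd nx (rel j) v = v := Nat.eq_of_beq_eq_true h8
    set L := edgesOf nx (rel j) v with hL
    set W := 2 * nV + j with hW
    have hWe : Nat.add (Nat.mul 2 nV) j = W := rfl
    have hLlt : ∀ y ∈ L, y < 2 * nV := fun y hy => edgesOf_lt nx C.nx_lt (C.rel_lt j hjlt) hvlt y hy
    -- the table satisfies the equation
    have hS : ∀ i, sumOK nV M nx dat i v j (rel j) = true →
        p i ^ (L.map (fun y => fld i (dat y))).sum = p i ^ fld i (dat W) := by
      intro i hi
      apply hMpow
      have h9 := Nat.eq_of_beq_eq_true hi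
      rw [wSum_eq, hWe] at h9
      exact h9
    have htab : (L.map (fun y => ev p (dat y))).prod = ev p (dat W) := by
      rw [prod_ev]
      unfold ev4 ev
      rw [hS 0 s0, hS 1 s1, hS 2 s2, hS 3 s3]
    have hkv := heq v j hvlt hjlt hend
    -- the defect
    let δ : Nat → A := fun y => kv y * (ev p (dat y))⁻¹
    have hδ : (L.map δ).prod = δ W := by
      have h12 : (L.map δ).prod = (L.map kv).prod * ((L.map (fun y => ev p (dat y))).prod)⁻¹ := by
        generalize L = L'
        induction L' with
        | nil => simp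
        | cons y L' ih2 =>
          simp only [List.map_cons, List.prod_cons, ih2, mul_inv_rev, δ]
          simp only [mul_assoc, mul_left_comm, mul_comm]
      rw [h12, htab, ← hkv]
    have hlow : ∀ y ∈ L, y ≠ x → δ y = 1 := by
      intro y hy hne
      have h13 := wLow_spec nx (fun y => rkOf (dat y)) x (rkOf (dat x)) (rel j) v h11 y hy hne
      rw [hr] at h13
      show kv y * (ev p (dat y))⁻¹ = 1
      rw [ih _ h13 y rfl (by have := hLlt y hy; omega), mul_inv_cancel]
    have h14 := prod_isolate δ x L hlow
    have hdone : δ x = 1 := by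
      by_cases hxW : Nat.beq x W = true
      · have h15 : x = W := Nat.eq_of_beq_eq_true hxW
        rw [hWe, hxW] at h10
        have h16 : L.count x = 0 := by
          have h17 := Nat.eq_of_beq_eq_true h10
          rwa [wCount_eq] at h17
        rw [h16, pow_zero, hδ, ← h15] at h14
        exact h14
      · have h18 : Nat.beq x W = false := by
          cases h19 : Nat.beq x W
          · rfl
          · exact absurd h19 hxW
        rw [hWe, h18] at h10
        simp only [cond_false, Bool.and_eq_true] at h10
        have h16 : L.count x = 1 := by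
          have h17 := Nat.eq_of_beq_eq_true h10.1
          rwa [wCount_eq] at h17
        rw [h16, pow_one, hδ] at h14
        have h20 : rkOf (dat W) < r := by
          rw [← hr]
          exact Nat.blt_eq.mp h10.2
        have h21 : δ W = 1 := by
          show kv W * (ev p (dat W))⁻¹ = 1
          rw [ih _ h20 W rfl (by omega), mul_inv_cancel]
        rw [← h14, h21]
    have h22 : kv x * (ev p (dat x))⁻¹ = 1 := hdone
    exact mul_inv_eq_one.mp h22

end Solve

end Cfsg.Agent.Lib.SchurCert.Elim
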