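import Mathlib
import Cfsg.Agent.Lib.SchurCert.Elim

/-!
# Bounding a central extension by a Cayley graph
-/

set_option autoImplicit false

namespace Cfsg.Agent.Lib.SchurCert.Lift

open Cfsg.Agent.Lib.SchurCert.Elim Subgroup

section

variable {Y : Type*} [Group Y] (par : ℕ → ℕ) (gen : ℕ → Y)

/-- Lifts along the tree. -/
noncomputable def tT (v : ℕ) : Y :=
  if h : 0 < v ∧ parV par v < v then gen (pgV par v) * tT (parV par v) else 1
termination_by v
decreasing_by exact h.2

theorem tT_eq (v : ℕ) :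
    tT par gen v = if h : 0 < v ∧ parV par v < v then gen (pgV par v) * tT par gen (parV par v) else 1 := by
  rw [tT]

theorem tT_zero : tT par gen 0 = 1 := by
  rw [tT_eq]
  simp

/-- The image of a lift. -/
theorem map_tT {D : Type*} [Group D] (f : Y →* D) (X : ℕ → D) (G : ℕ → D) {nV : ℕ} (h0 : X 0 = 1)
    (hpar : ∀ v, 0 < v → v < nV → parV par v < v)
    (hX : ∀ v, 0 < v → v < nV → X v = G (pgV par v) * X (parV par v))
    (h : ∀ g, g < 2 → f (gen g) = G g) (v : ℕ) (hv : v < nV) : f (tT par gen v) = X v := by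
  induction v using Nat.strong_induction_on with
  | _ v ih =>
    rw [tT_eq]
    rcases Nat.eq_zero_or_pos v with rfl | h2
    · simp [h0]
    · have h1 := hpar v h2 hv
      rw [dif_pos ⟨h2, h1⟩, map_mul, ih _ h1 (by omega), h _ (pgV_lt par v), hX v h2 hv]

variable (nV : ℕ) (nx : ℕ → ℕ → ℕ)

/-- The central element of an edge. -/
noncomputable def kE (v g : ℕ) : Y := gen g * tT par gen v * (tT par gen (nx v g))⁻¹

/-- Evaluation of a word, first letter applied first. -/
def evalW : List ℕ → Y
  | [] => 1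
  | g :: w => evalW w * gen g

/-- The element of a variable. -/
noncomputable def kvY (rel : ℕ → List ℕ) (x : ℕ) : Y :=
  if x < 2 * nV then kE par gen nx (Nat.shiftRight x 1) (Nat.land x 1) else evalW gen (rel (x - 2 * nV))

theorem shr_eq (x : ℕ) : Nat.shiftRight x 1 = x / 2 := by
  show x >>> 1 = _
  rw [Nat.shiftRight_eq_div_pow]

theorem land_eq (x : ℕ) : Nat.land x 1 = x % 2 := by
  show x &&& 1 = _
  exact Nat.and_one_is_mod _

variable (rel : ℕ → List ℕ)

theorem kvY_edge {v g : ℕ} (hv : v < nV) (hg : g < 2) :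
    kvY par gen nV nx rel (Nat.add (Nat.mul 2 v) g) = kE par gen nx v g := by
  have e : Nat.add (Nat.mul 2 v) g = 2 * v + g := rfl
  rw [e]
  unfold kvY
  rw [if_pos (by omega), shr_eq, land_eq]
  congr 1 <;> omega

theorem evalW_spec {nV : ℕ} (hnx : ∀ v g, v < nV → g < 2 → nx v g < nV)
    (hc : ∀ v, v < nV → ∀ g, g < 2 → kE par gen nx v g ∈ center Y) {w : List ℕ} (hw : ∀ g ∈ w, g < 2) :
    ∀ {v : ℕ}, v < nV → evalW gen w * tT par gen v =
      ((edgesOf nx w v).map (kvY par gen nV nx rel)).prod * tT par gen (wEnd nx w v) := by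
  induction w with
  | nil =>
    intro v _
    simp [evalW, edgesOf, wEnd_nil]
  | cons g w ih =>
    intro v hv
    have hg := hw g List.mem_cons_self
    have h1 := ih (fun g' hg' => hw g' (List.mem_cons_of_mem _ hg')) (hnx v g hv hg)
    simp only [evalW, edgesOf, wEnd_cons, List.map_cons, List.prod_cons, kvY_edge par gen nV nx rel hv hg]
    have h2 : gen g * tT par gen v = kE par gen nx v g * tT par gen (nx v g) := by
      unfold kE
      group
    rw [mul_assoc, h2, ← mul_assoc (evalW gen w), mem_center_iff.mp (hc v hv g hg) (evalW gen w), mul_assoc,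
      h1, mul_assoc]

end

set_option maxHeartbeats 2000000 in
/-- **The bound**: every element of the kernel is a monomial in four parameters, and the equations of
closed walks hold between them. -/
theorem main {nV nR M : ℕ} {nx : ℕ → ℕ → ℕ} {par dat : ℕ → ℕ} {rel : ℕ → List ℕ} {p0 p1 p2 p3 : ℕ}
    (C : Cert nV nR M nx par dat rel p0 p1 p2 p3)
    {Y : Type*} [Group Y] [Finite Y] (gen : ℕ → Y) (K : Subgroup Y) (hK : K ≤ center Y)
    (hMK : ∀ x ∈ K, x ^ M = 1) (h0 : evalW gen (rel 0) = 1) (h1 : evalW gen (rel 1) = 1)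
    (htop : closure {gen 0, gen 1} = ⊤) (H3 : ∀ v, v < nV → ∀ g, g < 2 → kE par gen nx v g ∈ K)
    (H4 : ∀ v, v < nV → tT par gen v ∈ K → v = 0) :
    ∃ q : Fin 4 → Y, (∀ i, q i ∈ K) ∧
      (∀ x ∈ K, ∃ a b c d : ℕ, x = q 0 ^ a * q 1 ^ b * q 2 ^ c * q 3 ^ d) ∧
      (∀ v j, v < nV → j < nR → wEnd nx (rel j) v = v →
        q 0 ^ (wSum nx (fun y => fld 0 (dat y)) (rel j) v) * q 1 ^ (wSum nx (fun y => fld 1 (dat y)) (rel j) v) *
          q 2 ^ (wSum nx (fun y => fld 2 (dat y)) (rel j) v) * q 3 ^ (wSum nx (fun y => fld 3 (dat y)) (rel j) v) =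
        q 0 ^ fld 0 (dat (2 * nV + j)) * q 1 ^ fld 1 (dat (2 * nV + j)) * q 2 ^ fld 2 (dat (2 * nV + j)) *
          q 3 ^ fld 3 (dat (2 * nV + j))) := by
  have hc : ∀ v, v < nV → ∀ g, g < 2 → kE par gen nx v g ∈ center Y := fun v hv g hg => hK (H3 v hv g hg)
  have hspec : ∀ j, j < nR → ∀ {v : ℕ}, v < nV → evalW gen (rel j) * tT par gen v =
      ((edgesOf nx (rel j) v).map (kvY par gen nV nx rel)).prod * tT par gen (wEnd nx (rel j) v) :=
    fun j hj v hv => evalW_spec par gen nx rel C.nx_lt hc (C.rel_lt j hj) hv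
  -- the relators lie in `K`
  have hrel : ∀ j, j < nR → evalW gen (rel j) ∈ K := by
    intro j hj
    have h3 := hspec j hj C.hnV
    rw [C.rel_loop j hj, tT_zero, mul_one, mul_one] at h3
    rw [h3]
    apply Subgroup.list_prod_mem
    intro x hx
    obtain ⟨e, he, rfl⟩ := List.mem_map.mp hx
    have h4 := edgesOf_lt nx C.nx_lt (C.rel_lt j hj) C.hnV e he
    unfold kvY
    rw [if_pos h4]
    apply H3
    · rw [shr_eq]
      omega
    · rw [land_eq]
      omega
  have hmem : ∀ x, x < 2 * nV + nR → kvY par gen nV nx rel x ∈ K := by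
    intro x hx
    unfold kvY
    split_ifs with h
    · apply H3
      · rw [shr_eq]
        omega
      · rw [land_eq]
        omega
    · apply hrel
      omega
  let _ : CommGroup K := { (inferInstance : Group K) with
    mul_comm := fun a b => Subtype.ext (mem_center_iff.mp (hK a.2) b.1).symm }
  have hM : ∀ x : K, x ^ M = 1 := fun x => Subtype.ext (hMK x.1 x.2)
  -- the variables
  let kv : ℕ → K := fun x => if h : x < 2 * nV + nR then ⟨kvY par gen nV nx rel x, hmem x h⟩ else 1
  have hkv : ∀ x, x < 2 * nV + nR → (kv x : Y) = kvY par gen nV nx rel x := by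
    intro x hx
    simp only [kv, dif_pos hx]
  have hkvL : ∀ L : List ℕ, (∀ x ∈ L, x < 2 * nV + nR) →
      (((L.map kv).prod : K) : Y) = (L.map (kvY par gen nV nx rel)).prod := by
    intro L
    induction L with
    | nil => simp
    | cons y L ih =>
      intro hL
      simp only [List.map_cons, List.prod_cons, Subgroup.coe_mul]
      rw [hkv y (hL y List.mem_cons_self), ih (fun z hz => hL z (List.mem_cons_of_mem _ hz))]
  have hkv2 : ∀ j, j < nR → kvY par gen nV nx rel (2 * nV + j) = evalW gen (rel j) := by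
    intro j _
    unfold kvY
    rw [if_neg (by omega), Nat.add_sub_cancel_left]
  have heq : ∀ v j, v < nV → j < nR → wEnd nx (rel j) v = v →
      kv (2 * nV + j) = ((edgesOf nx (rel j) v).map kv).prod := by
    intro v j hv hj hp
    apply Subtype.ext
    have hlt : ∀ x ∈ edgesOf nx (rel j) v, x < 2 * nV + nR := fun x hx => by
      have := edgesOf_lt nx C.nx_lt (C.rel_lt j hj) hv x hx
      omega
    rw [hkvL _ hlt, hkv _ (by omega), hkv2 j hj]
    have h3 := hspec j hj hv
    rw [hp, mul_left_inj] at h3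
    exact h3
  -- the parameters
  let p : ℕ → K := fun i => kv (2 * nV + (if i = 0 then p0 else if i = 1 then p1 else if i = 2 then p2 else p3))
  have hbase : ∀ x, baseOK nV nx par dat p0 p1 p2 p3 x = true → kv x = ev p (dat x) := by
    intro x hx
    unfold baseOK at hx
    by_cases h3 : Nat.blt x (Nat.mul 2 nV) = true
    · rw [h3] at hx
      have h3' : x < 2 * nV := Nat.blt_eq.mp h3
      have h7 : Nat.shiftRight x 1 < nV := by
        rw [shr_eq]
        omega
      have h8 : Nat.land x 1 < 2 := by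
        rw [land_eq]
        omega
      simp only [cond_true, treeOK, vecIs, Bool.and_eq_true, Bool.not_eq_true'] at hx
      obtain ⟨⟨h4, h5⟩, ⟨⟨⟨f0, f1⟩, f2⟩, f3⟩⟩ := hx
      set nn := nx (Nat.shiftRight x 1) (Nat.land x 1) with hnn
      have h9 : nn < nV := C.nx_lt _ _ h7 h8
      have h10 : 0 < nn := by
        rcases Nat.eq_zero_or_pos nn with h | h
        · rw [h] at h4
          exact absurd h4 (by decide)
        · exact h
      have h12 : x < 2 * nV + nR := by omega
      have h13 : x = 2 * parV par nn + pgV par nn := Nat.eq_of_beq_eq_true h5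
      have hpg := pgV_lt par nn
      have h14 : Nat.shiftRight x 1 = parV par nn := by
        rw [shr_eq]
        omega
      have h15 : Nat.land x 1 = pgV par nn := by
        rw [land_eq]
        omega
      have hev : ev p (dat x) = 1 := by
        unfold ev
        rw [Nat.eq_of_beq_eq_true f0, Nat.eq_of_beq_eq_true f1, Nat.eq_of_beq_eq_true f2, Nat.eq_of_beq_eq_true f3]
        simp
      rw [hev]
      apply Subtype.ext
      rw [hkv x h12]
      show kvY par gen nV nx rel x = 1
      unfold kvY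
      obtain ⟨t1, -⟩ := C.tree nn h10 h9
      rw [if_pos h3', kE, ← hnn, h14, h15, tT_eq par gen nn, dif_pos ⟨h10, t1⟩]
      simp
    · have h3' : Nat.blt x (Nat.mul 2 nV) = false := by
        cases h30 : Nat.blt x (Nat.mul 2 nV)
        · rfl
        · exact absurd h30 h3
      rw [h3'] at hx
      have h3'' : ¬ x < 2 * nV := fun h => h3 (Nat.blt_eq.mpr h)
      have hx2 : x = 2 * nV + (x - 2 * nV) := by omega
      set j := x - 2 * nV with hj
      have hj' : Nat.sub x (Nat.mul 2 nV) = j := rfl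
      simp only [cond_false, relBaseOK, vecIs, hj', Bool.or_eq_true, Bool.and_eq_true] at hx
      have hev0 : ∀ a b c d, fld 0 (dat x) = a → fld 1 (dat x) = b → fld 2 (dat x) = c → fld 3 (dat x) = d →
          ev p (dat x) = ev4 p a b c d := by
        intro a b c d h1 h2 h3 h4
        unfold ev ev4
        rw [h1, h2, h3, h4]
      rcases hx with (((⟨hj1, ⟨⟨⟨f0, f1⟩, f2⟩, f3⟩⟩ | ⟨hj1, ⟨⟨⟨f0, f1⟩, f2⟩, f3⟩⟩) | ⟨hj1, ⟨⟨⟨f0, f1⟩, f2⟩, f3⟩⟩) |
        ⟨hj1, ⟨⟨⟨f0, f1⟩, f2⟩, f3⟩⟩) | ⟨hj1, ⟨⟨⟨f0, f1⟩, f2⟩, f3⟩⟩ <;>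
        rw [hev0 _ _ _ _ (Nat.eq_of_beq_eq_true f0) (Nat.eq_of_beq_eq_true f1) (Nat.eq_of_beq_eq_true f2)
          (Nat.eq_of_beq_eq_true f3)]
      · -- the relators of the generators
        have hj2 : j < 2 := Nat.blt_eq.mp hj1
        have hjR : j < nR := by
          have := C.hnR
          omega
        have hval : kv x = 1 := by
          apply Subtype.ext
          rw [hkv x (by omega), hx2, hkv2 j hjR]
          show evalW gen (rel j) = 1
          have hj3 : j = 0 ∨ j = 1 := by omega
          rcases hj3 with h | h <;> rw [h]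
          · exact h0
          · exact h1
        rw [hval]
        simp [ev4]
      · have e : j = p0 := Nat.eq_of_beq_eq_true hj1
        have e1 : ev4 p 1 0 0 0 = p 0 := by simp [ev4]
        rw [e1]
        show kv x = kv (2 * nV + p0)
        rw [← e]
        exact congrArg kv hx2
      · have e : j = p1 := Nat.eq_of_beq_eq_true hj1
        have e1 : ev4 p 0 1 0 0 = p 1 := by simp [ev4]
        rw [e1]
        show kv x = kv (2 * nV + p1)
        rw [← e]
        exact congrArg kv hx2
      · have e : j = p2 := Nat.eq_of_beq_eq_true hj1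
        have e1 : ev4 p 0 0 1 0 = p 2 := by simp [ev4]
        rw [e1]
        show kv x = kv (2 * nV + p2)
        rw [← e]
        exact congrArg kv hx2
      · have e : j = p3 := Nat.eq_of_beq_eq_true hj1
        have e1 : ev4 p 0 0 0 1 = p 3 := by simp [ev4]
        rw [e1]
        show kv x = kv (2 * nV + p3)
        rw [← e]
        exact congrArg kv hx2
  have hsol := solve C hM kv p hbase heq
  -- all edge values are monomials
  let cc : Fin 4 → Y := fun i => ((p i.1 : K) : Y)
  have hccm : ∀ a b c d, (((ev4 p a b c d : K)) : Y) = cc 0 ^ a * cc 1 ^ b * cc 2 ^ c * cc 3 ^ d := by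
    intro a b c d
    unfold ev4
    simp only [Subgroup.coe_mul, Subgroup.coe_pow]
    rfl
  let S : Submonoid Y :=
    { carrier := {y | ∀ v, v < nV → ∃ v', v' < nV ∧ ∃ a b c d : ℕ, y * tT par gen v = ((ev4 p a b c d : K) : Y) * tT par gen v'}
      one_mem' := by
        intro v hv
        exact ⟨v, hv, 0, 0, 0, 0, by simp [ev4]⟩
      mul_mem' := by
        intro y y' hy hy' v hv
        obtain ⟨v1, hv1, a, b, c, d, h3⟩ := hy' v hv
        obtain ⟨v2, hv2, a', b', c', d', h4⟩ := hy v1 hv1
        refine ⟨v2, hv2, a + a', b + b', c + c', d + d', ?_⟩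
        rw [ev4_add, mul_assoc, h3, ← mul_assoc, mem_center_iff.mp (hK (ev4 p a b c d).2) y, mul_assoc, h4,
          Subgroup.coe_mul, mul_assoc] }
  have hgen : ∀ g, g < 2 → gen g ∈ S := by
    intro g hg v hv
    refine ⟨nx v g, C.nx_lt v g hv hg, fld 0 (dat (Nat.add (Nat.mul 2 v) g)), fld 1 (dat (Nat.add (Nat.mul 2 v) g)),
      fld 2 (dat (Nat.add (Nat.mul 2 v) g)), fld 3 (dat (Nat.add (Nat.mul 2 v) g)), ?_⟩
    have h3 : Nat.add (Nat.mul 2 v) g < 2 * nV + nR := by
      show 2 * v + g < _
      omega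
    have h4 : ev4 p (fld 0 (dat (Nat.add (Nat.mul 2 v) g))) (fld 1 (dat (Nat.add (Nat.mul 2 v) g)))
      (fld 2 (dat (Nat.add (Nat.mul 2 v) g))) (fld 3 (dat (Nat.add (Nat.mul 2 v) g))) =
        ev p (dat (Nat.add (Nat.mul 2 v) g)) := rfl
    rw [h4, ← hsol _ h3, hkv _ h3, kvY_edge par gen nV nx rel hv hg]
    unfold kE
    group
  have hSall : ∀ y : Y, y ∈ S := by
    intro y
    have hy : y ∈ closure ({gen 0, gen 1} : Set Y) := by
      rw [htop]
      exact mem_top y
    induction hy using Subgroup.closure_induction with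
    | mem x hx =>
      rcases hx with rfl | rfl
      · exact hgen 0 (by decide)
      · exact hgen 1 (by decide)
    | one => exact S.one_mem
    | mul x y _ _ hx hy => exact S.mul_mem hx hy
    | inv x _ hx =>
      have h3 : x⁻¹ = x ^ (orderOf x - 1) := by
        apply inv_eq_of_mul_eq_one_right
        rw [← pow_succ', Nat.sub_add_cancel (orderOf_pos x), pow_orderOf_eq_one]
      rw [h3]
      exact S.pow_mem hx _
  refine ⟨cc, fun i => (p i.1).2, ?_, ?_⟩
  · intro x hx
    obtain ⟨v', hv', a, b, c, d, h3⟩ := hSall x 0 C.hnV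
    refine ⟨a, b, c, d, ?_⟩
    rw [tT_zero, mul_one] at h3
    have h4 : tT par gen v' ∈ K := by
      have h5 : tT par gen v' = ((ev4 p a b c d : K) : Y)⁻¹ * x := by
        rw [h3]
        group
      rw [h5]
      exact K.mul_mem (K.inv_mem (ev4 p a b c d).2) hx
    rw [H4 v' hv' h4, tT_zero, mul_one, hccm] at h3
    exact h3
  · intro v j hv hj hp
    have h3 := heq v j hv hj hp
    have hlt : ∀ x ∈ edgesOf nx (rel j) v, x < 2 * nV + nR := fun x hx => by
      have := edgesOf_lt nx C.nx_lt (C.rel_lt j hj) hv x hx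
      omega
    rw [hsol _ (by omega)] at h3
    have h4 : (edgesOf nx (rel j) v).map kv = (edgesOf nx (rel j) v).map (fun y => ev p (dat y)) :=
      List.map_congr_left (fun y hy => hsol y (hlt y hy))
    rw [h4, prod_ev] at h3
    have h5 : ∀ i, wSum nx (fun y => fld i (dat y)) (rel j) v = ((edgesOf nx (rel j) v).map (fun y => fld i (dat y))).sum :=
      fun i => wSum_eq nx _ _ _
    rw [h5, h5, h5, h5, ← hccm]
    have h6 : ev p (dat (2 * nV + j)) = ev4 p (fld 0 (dat (2 * nV + j))) (fld 1 (dat (2 * nV + j))) (fld 2 (dat (2 * nV + j)))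
      (fld 3 (dat (2 * nV + j))) := rfl
    rw [h6] at h3
    rw [← h3, hccm]

end Cfsg.Agent.Lib.SchurCert.Lift
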