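import Mathlib

/-!
# Kernel loops
-/

set_option autoImplicit false

namespace Cfsg.Agent.Lib.SchurCert.Bits

/-- Check on all numbers in a dyadic range, with an explicit recursor. -/
noncomputable def allB (p : Nat → Bool) (d : Nat) : Nat → Bool :=
  Nat.rec (motive := fun _ => Nat → Bool) (fun lo => p lo)
    (fun d ih lo => and (ih lo) (ih (Nat.add lo (Nat.pow 2 d)))) d

theorem allB_spec {p : Nat → Bool} (d lo : Nat) (h : allB p d lo = true) :
    ∀ x, lo ≤ x → x < lo + 2 ^ d → p x = true := by
  induction d generalizing lo with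
  | zero =>
    intro x h1 h2
    have : x = lo := by
      simp only [pow_zero] at h2
      omega
    rw [this]
    exact h
  | succ d ih =>
    have h' : (allB p d lo && allB p d (Nat.add lo (Nat.pow 2 d))) = true := h
    rw [Bool.and_eq_true] at h'
    intro x h1 h2
    have e : Nat.add lo (Nat.pow 2 d) = lo + 2 ^ d := rfl
    rw [e] at h'
    by_cases h3 : x < lo + 2 ^ d
    · exact ih lo h'.1 x h1 h3
    · refine ih _ h'.2 x (by omega) ?_
      rw [pow_succ] at h2
      omega

/-- Collect chunks: `m` dyadic blocks of size `2 ^ d`. -/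
theorem allB_chunks {p : Nat → Bool} {d n : Nat} (h : ∀ i, i * 2 ^ d < n → allB p d (i * 2 ^ d) = true) :
    ∀ x, x < n → p x = true := by
  intro x hx
  have hpos : 0 < 2 ^ d := by positivity
  have h1 : x / 2 ^ d * 2 ^ d ≤ x := Nat.div_mul_le_self _ _
  refine allB_spec d _ (h (x / 2 ^ d) (by omega)) x h1 ?_
  have h2 := Nat.div_add_mod x (2 ^ d)
  have h3 := Nat.mod_lt x hpos
  rw [mul_comm] at h2
  omega

end Cfsg.Agent.Lib.SchurCert.Bits
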