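import Mathlib
import Cfsg.Agent.Lib.SchurCert.Lift
import Cfsg.Agent.Lib.Schur.Stem
import Cfsg.Prelude.Def_KGroupFacts

/-!
# From the two-part of a kernel to the whole kernel
-/

set_option autoImplicit false

namespace Cfsg.Agent.Lib.SchurCert.Upper

open Cfsg Cfsg.Agent.Lib.SchurCert.Elim Cfsg.Agent.Lib.SchurCert.Lift Cfsg.Agent.Lib.Schur.Stem Subgroup
open scoped commutatorElement

universe u v

section Basic

variable {Γ : Type u} {G : Type v} [Group Γ] [Group G]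

/-- The exponent of a kernel divides the order of the group. -/
theorem pow_card_eq_one [Finite Γ] {σ : Γ →* G} (hσ : IsStemExtension σ) {z : Γ} (hz : z ∈ σ.ker) :
    z ^ Nat.card G = 1 := by
  have hidx : σ.ker.index = Nat.card G := by
    rw [Subgroup.index_ker, MonoidHom.range_eq_top.2 hσ.1]
    exact Nat.card_congr topEquiv.toEquiv
  have h := pow_index_mem_commutator σ.ker (hσ.2.1 hz) (hσ.2.2 hz)
  rw [hidx] at h
  have hbot : commutator σ.ker = ⊥ := by
    rw [_root_.commutator_def, Subgroup.commutator_eq_bot_iff_le_centralizer]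
    intro x _
    rw [mem_centralizer_iff]
    intro y _
    apply Subtype.ext
    exact (mem_center_iff.1 (hσ.2.1 x.2) (y : Γ))
  rw [hbot] at h
  simpa using h

/-- The elements of a central kernel killed by `m`. -/
def powKer (σ : Γ →* G) (hc : σ.ker ≤ center Γ) (m : ℕ) : Subgroup Γ where
  carrier := {z | z ∈ σ.ker ∧ z ^ m = 1}
  mul_mem' := by
    rintro a b ⟨ha, ha'⟩ ⟨hb, hb'⟩
    refine ⟨σ.ker.mul_mem ha hb, ?_⟩
    have h : Commute a b := (mem_center_iff.1 (hc hb) a)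
    rw [h.mul_pow, ha', hb', one_mul]
  one_mem' := ⟨σ.ker.one_mem, one_pow _⟩
  inv_mem' := by
    rintro a ⟨ha, ha'⟩
    exact ⟨σ.ker.inv_mem ha, by rw [inv_pow, ha', inv_one]⟩

theorem mem_powKer {σ : Γ →* G} {hc : σ.ker ≤ center Γ} {m : ℕ} {z : Γ} :
    z ∈ powKer σ hc m ↔ z ∈ σ.ker ∧ z ^ m = 1 := Iff.rfl

/-- A perfect group has perfect central extensions. -/
theorem commutator_eq_top_of_stem {σ : Γ →* G} (hσ : IsStemExtension σ) (hG : commutator G = ⊤) :
    commutator Γ = ⊤ := by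
  rw [eq_top_iff]
  intro x _
  have h1 : (commutator Γ).map σ = ⊤ := by
    rw [_root_.commutator_def, Subgroup.map_commutator, Subgroup.map_top_of_surjective σ hσ.1]
    exact hG
  obtain ⟨y, hy, hyx⟩ : σ x ∈ (commutator Γ).map σ := h1 ▸ mem_top _
  have h2 : y⁻¹ * x ∈ σ.ker := by
    rw [MonoidHom.mem_ker, map_mul, map_inv, hyx, inv_mul_cancel]
  have h3 := hσ.2.2 h2
  have : x = y * (y⁻¹ * x) := by group
  rw [this]
  exact mul_mem hy h3

/-- Images of perfect groups are perfect. -/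
theorem commutator_eq_top_of_surj {H : Type*} [Group H] (f : Γ →* H) (hf : Function.Surjective f)
    (hG : commutator Γ = ⊤) : commutator H = ⊤ := by
  have h1 : (commutator Γ).map f = commutator H := by
    rw [_root_.commutator_def, Subgroup.map_commutator, Subgroup.map_top_of_surjective f hf]
    rfl
  rw [← h1, hG, Subgroup.map_top_of_surjective f hf]

/-- Commutators ignore central factors. -/
theorem comm_mul_central {Y : Type*} [Group Y] {a b y : Y} (hb : b ∈ center Y) : ⁅a * b, y⁆ = ⁅a, y⁆ := by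
  have hb' := mem_center_iff.mp hb y
  rw [commutatorElement_def, commutatorElement_def]
  calc a * b * y * (a * b)⁻¹ * y⁻¹ = a * (b * y) * (b⁻¹ * a⁻¹) * y⁻¹ := by group
    _ = a * (y * b) * (b⁻¹ * a⁻¹) * y⁻¹ := by rw [hb']
    _ = a * y * a⁻¹ * y⁻¹ := by group

theorem comm_central_mul {Y : Type*} [Group Y] {a b y : Y} (hb : b ∈ center Y) : ⁅y, a * b⁆ = ⁅y, a⁆ := by
  have hb' := mem_center_iff.mp hb y⁻¹
  rw [commutatorElement_def, commutatorElement_def]
  calc y * (a * b) * y⁻¹ * (a * b)⁻¹ = y * a * (b * y⁻¹) * (b⁻¹ * a⁻¹) := by group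
    _ = y * a * (y⁻¹ * b) * (b⁻¹ * a⁻¹) := by rw [hb']
    _ = y * a * y⁻¹ * a⁻¹ := by group

/-- A subgroup whose product with a central subgroup is everything contains the commutators. -/
theorem commutator_le_of_sup_central {Y : Type*} [Group Y] (H K : Subgroup Y) (hK : K ≤ center Y)
    (h : H ⊔ K = ⊤) : commutator Y ≤ ⁅H, H⁆ := by
  have hn : K.Normal := by
    constructor
    intro n hn g
    rw [mem_center_iff.mp (hK hn) g]
    simpa using hn
  rw [_root_.commutator_def, Subgroup.commutator_le]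
  intro x _ y _
  have hx : x ∈ H ⊔ K := by
    rw [h]
    exact mem_top x
  have hy : y ∈ H ⊔ K := by
    rw [h]
    exact mem_top y
  obtain ⟨a, ha, b, hb, rfl⟩ := Subgroup.mem_sup_of_normal_right.mp hx
  obtain ⟨c, hc, d, hd, rfl⟩ := Subgroup.mem_sup_of_normal_right.mp hy
  rw [comm_mul_central (hK hb), comm_central_mul (hK hd)]
  exact Subgroup.commutator_mem_commutator ha hc

theorem eq_top_of_sup_central {Y : Type*} [Group Y] (hY : commutator Y = ⊤) (H K : Subgroup Y) (hK : K ≤ center Y)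
    (h : H ⊔ K = ⊤) : H = ⊤ := by
  rw [eq_top_iff, ← hY]
  exact (commutator_le_of_sup_central H K hK h).trans H.commutator_le_self

end Basic

/-- A variant of the bound of the order of the kernel by the Sylow subgroups: a subgroup of the kernel
with controlled primes. -/
theorem card_sub_dvd {Γ : Type u} {G : Type v} [Group Γ] [Group G] [Finite Γ] {σ : Γ →* G}
    (hσ : IsStemExtension σ) (L : Subgroup Γ) (hL : L ≤ σ.ker) (n : ℕ) (hn : n ≠ 0)
    (h : ∀ (p : ℕ) [Fact p.Prime], p ∣ Nat.card L → ∃ S : Sylow p G, StemBound.{u} (S : Subgroup G) n) :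
    Nat.card L ∣ n := by
  have hc : Nat.card L ≠ 0 := Nat.card_pos.ne'
  rw [← Nat.factorization_prime_le_iff_dvd hc hn]
  intro p hp
  have : Fact p.Prime := ⟨hp⟩
  by_cases hpL : p ∣ Nat.card L
  swap
  · rw [Nat.factorization_eq_zero_of_not_dvd hpL]
    exact Nat.zero_le _
  obtain ⟨Q⟩ : Nonempty (Sylow p L) := inferInstance
  have hQ : Nat.card Q = p ^ (Nat.card L).factorization p := Sylow.card_eq_multiplicity Q
  obtain ⟨P⟩ : Nonempty (Sylow p Γ) := inferInstance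
  have hmem : ∀ x : Q, ((x : L) : Γ) ∈ (P : Subgroup Γ) := by
    intro x
    obtain ⟨k, hk⟩ := Q.2 x
    refine mem_sylow_of_central (hσ.2.1 (hL (x : L).2)) (k := k) ?_ P
    have := congrArg (fun y : Q => ((y : L) : Γ)) hk
    simpa using this
  let f : Q → (σ.subgroupMap (P : Subgroup Γ)).ker := fun x =>
    ⟨⟨((x : L) : Γ), hmem x⟩, mem_ker_subgroupMap.2 (hL (x : L).2)⟩
  have hf : Function.Injective f := by
    intro x y hxy
    have := congrArg (fun w : (σ.subgroupMap (P : Subgroup Γ)).ker => ((w : P) : Γ)) hxy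
    exact Subtype.ext (Subtype.ext this)
  have hle : Nat.card Q ≤ Nat.card (σ.subgroupMap (P : Subgroup Γ)).ker :=
    Nat.card_le_card_of_injective f hf
  have : Finite G := Finite.of_surjective σ hσ.1
  have h1 : Nat.card (σ.subgroupMap (P : Subgroup Γ)).ker ∣ n := by
    obtain ⟨S, hS⟩ := h p hpL
    let S' : Sylow p G := P.mapSurjective hσ.1
    obtain ⟨g, hg⟩ := MulAction.exists_smul_eq G S S'
    have hS' : (S' : Subgroup G) = (P : Subgroup Γ).map σ := rfl
    have e : (S : Subgroup G) ≃* ((P : Subgroup Γ).map σ) := by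
      rw [← hS', ← hg, Sylow.coe_subgroup_smul]
      exact equivSMul (MulAut.conj g) (S : Subgroup G)
    exact hS.congr e _ (σ.subgroupMap (P : Subgroup Γ)) (isStem_sylow hσ P)
  have hdvd : p ^ (Nat.card L).factorization p ∣ n := by
    have hKp : IsPGroup p (σ.subgroupMap (P : Subgroup Γ)).ker := P.2.to_subgroup _
    obtain ⟨j, hj⟩ := IsPGroup.iff_card.1 hKp
    rw [hj] at h1 hle
    rw [hQ] at hle
    exact (pow_dvd_pow p ((Nat.pow_le_pow_iff_right hp.one_lt).1 hle)).trans h1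
  exact (hp.pow_dvd_iff_le_factorization hn).1 hdvd

/-- A prime dividing the order of a subgroup killed by `m` divides `m`. -/
theorem prime_dvd_of_card {L : Type*} [Group L] [Finite L] {m : ℕ} (hm : ∀ x : L, x ^ m = 1) {p : ℕ} [Fact p.Prime]
    (h : p ∣ Nat.card L) : p ∣ m := by
  obtain ⟨x, hx⟩ := exists_prime_orderOf_dvd_card' p h
  rw [← hx]
  exact orderOf_dvd_of_pow_eq_one (hm x)

/-- **The reduction to kernels of exponent dividing `E`.** -/
theorem reduce {Γ : Type u} {G : Type v} [Group Γ] [Group G] [Finite Γ] {σ : Γ →* G} (hσ : IsStemExtension σ)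
    {E m d : ℕ} (hcop : Nat.Coprime E m) (hcard : Nat.card G = E * m) (hG : commutator G = ⊤)
    (H2 : ∀ (Y : Type u) [Group Y] [Finite Y] (f : Y →* G), Function.Surjective f → f.ker ≤ center Y →
      commutator Y = ⊤ → (∀ x ∈ f.ker, x ^ E = 1) →
      ∃ c₁ ∈ f.ker, ∃ c₂ ∈ f.ker, c₁ ^ d = 1 ∧ c₂ ^ d = 1 ∧ ∀ x ∈ f.ker, ∃ s t : ℕ, x = c₁ ^ s * c₂ ^ t) :
    ∃ c₁ ∈ σ.ker, ∃ c₂ ∈ σ.ker, c₁ ^ d = 1 ∧ c₂ ^ d = 1 ∧
      ∀ z ∈ σ.ker, ∃ s t : ℕ, ∃ l ∈ powKer σ hσ.2.1 m, z = c₁ ^ s * c₂ ^ t * l := by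
  set L := powKer σ hσ.2.1 m with hL
  have hLn : L.Normal := by
    constructor
    intro n hn g
    rw [mem_center_iff.mp (hσ.2.1 hn.1) g]
    simpa using hn
  have hLk : ∀ x ∈ L, σ x = 1 := fun x hx => hx.1
  let f : (Γ ⧸ L) →* G := QuotientGroup.lift L σ hLk
  have hmk : ∀ y : Γ ⧸ L, ∃ x : Γ, (x : Γ ⧸ L) = y := QuotientGroup.mk_surjective
  have hsurj : Function.Surjective f := by
    intro g
    obtain ⟨x, rfl⟩ := hσ.1 g
    exact ⟨(x : Γ ⧸ L), rfl⟩
  have hcen : f.ker ≤ center (Γ ⧸ L) := by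
    intro y hy
    obtain ⟨z, rfl⟩ := hmk y
    have hz : z ∈ σ.ker := hy
    rw [mem_center_iff]
    intro w
    obtain ⟨w', rfl⟩ := hmk w
    show ((w' * z : Γ) : Γ ⧸ L) = ((z * w' : Γ) : Γ ⧸ L)
    rw [mem_center_iff.mp (hσ.2.1 hz) w']
  have hperf : commutator (Γ ⧸ L) = ⊤ :=
    commutator_eq_top_of_surj (QuotientGroup.mk' L) (QuotientGroup.mk'_surjective L) (commutator_eq_top_of_stem hσ hG)
  have hexp : ∀ x ∈ f.ker, x ^ E = 1 := by
    intro y hy
    obtain ⟨z, rfl⟩ := hmk y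
    have hz : z ∈ σ.ker := hy
    have h1 : z ^ E ∈ L := by
      refine ⟨σ.ker.pow_mem hz _, ?_⟩
      rw [← pow_mul, ← hcard]
      exact pow_card_eq_one hσ hz
    show ((z ^ E : Γ) : Γ ⧸ L) = 1
    exact (QuotientGroup.eq_one_iff _).2 h1
  have : Finite (Γ ⧸ L) := inferInstance
  obtain ⟨b₁, hb₁, b₂, hb₂, hd₁, hd₂, hall⟩ := H2 (Γ ⧸ L) f hsurj hcen hperf hexp
  -- the exponent
  obtain ⟨e, he1, he2⟩ : ∃ e, e ≡ 1 [MOD E] ∧ m ∣ e := by
    refine ⟨Nat.chineseRemainder hcop 1 0, (Nat.chineseRemainder hcop 1 0).2.1, ?_⟩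
    exact (Nat.modEq_zero_iff_dvd).1 (Nat.chineseRemainder hcop 1 0).2.2
  have lift : ∀ b ∈ f.ker, ∃ c ∈ σ.ker, c ^ E = 1 ∧ (c : Γ ⧸ L) = b := by
    intro b hb
    obtain ⟨z, rfl⟩ := hmk b
    have hz : z ∈ σ.ker := hb
    refine ⟨z ^ e, σ.ker.pow_mem hz _, ?_, ?_⟩
    · obtain ⟨t, ht⟩ := he2
      have e3 : m * t * E = E * m * t := by ring
      rw [ht, ← pow_mul, e3, pow_mul, ← hcard, pow_card_eq_one hσ hz, one_pow]
    · have h1 : ((z : Γ ⧸ L)) ^ e = ((z : Γ ⧸ L)) ^ 1 := by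
        apply pow_eq_pow_iff_modEq.mpr
        exact Nat.ModEq.of_dvd (orderOf_dvd_of_pow_eq_one (hexp _ hb)) he1
      rw [pow_one] at h1
      exact h1
  obtain ⟨c₁, hc₁, hE₁, hm₁⟩ := lift b₁ hb₁
  obtain ⟨c₂, hc₂, hE₂, hm₂⟩ := lift b₂ hb₂
  have key : ∀ c ∈ σ.ker, c ^ E = 1 → ∀ {b : Γ ⧸ L}, (c : Γ ⧸ L) = b → b ^ d = 1 → c ^ d = 1 := by
    intro c hc hE b hb hbd
    have h1 : c ^ d ∈ L := by
      have h2 : ((c ^ d : Γ) : Γ ⧸ L) = 1 := by
        show ((c : Γ ⧸ L)) ^ d = 1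
        rw [hb, hbd]
      exact (QuotientGroup.eq_one_iff _).1 h2
    have h3 : orderOf (c ^ d) ∣ E := by
      apply orderOf_dvd_of_pow_eq_one
      rw [← pow_mul, mul_comm, pow_mul, hE, one_pow]
    have h4 : orderOf (c ^ d) ∣ m := orderOf_dvd_of_pow_eq_one h1.2
    have h5 : orderOf (c ^ d) = 1 := Nat.eq_one_of_dvd_coprimes hcop h3 h4
    exact orderOf_eq_one_iff.1 h5
  refine ⟨c₁, hc₁, c₂, hc₂, key c₁ hc₁ hE₁ hm₁ hd₁, key c₂ hc₂ hE₂ hm₂ hd₂, ?_⟩
  intro z hz
  obtain ⟨s, t, hst⟩ := hall (z : Γ ⧸ L) hz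
  refine ⟨s, t, (c₁ ^ s * c₂ ^ t)⁻¹ * z, ?_, by group⟩
  apply QuotientGroup.eq.1
  rw [hst, ← hm₁, ← hm₂]
  rfl

/-- A homomorphism from the cyclic group given by an element. -/
noncomputable def homAux {K : Type*} [Group K] (n : ℕ) (c : K) (hc : c ^ n = 1) :
    { f : ℤ →+ Additive K // f n = 0 } :=
  ⟨zmultiplesHom (Additive K) (Additive.ofMul c), by
    show (n : ℤ) • Additive.ofMul c = 0
    rw [natCast_zsmul, ← ofMul_pow, hc]
    rfl⟩

/-- A homomorphism from the cyclic group given by an element. -/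
noncomputable def homOf {K : Type*} [Group K] (n : ℕ) (c : K) (hc : c ^ n = 1) : Multiplicative (ZMod n) →* K :=
  AddMonoidHom.toMultiplicativeLeft (ZMod.lift n (homAux n c hc))

theorem homOf_natCast {K : Type*} [Group K] (n : ℕ) (c : K) (hc : c ^ n = 1) (s : ℕ) :
    homOf n c hc (Multiplicative.ofAdd (s : ZMod n)) = c ^ s := by
  have h := ZMod.lift_coe n (homAux n c hc) (s : ℤ)
  rw [Int.cast_natCast] at h
  show Additive.toMul ((ZMod.lift n (homAux n c hc)) (s : ZMod n)) = c ^ s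
  rw [h]
  show Additive.toMul ((s : ℤ) • Additive.ofMul c) = c ^ s
  rw [natCast_zsmul, ← ofMul_pow]
  rfl

/-- **Assembling the surjection.** -/
theorem exists_surj {K : Type*} [Group K] [Finite K] (hK : ∀ x y : K, x * y = y * x) {n d : ℕ} (c₁ c₂ : K)
    (hd₁ : c₁ ^ d = 1) (hd₂ : c₂ ^ d = 1) (L : Subgroup K) (hn : Squarefree n) (hL : Nat.card L ∣ n)
    (hall : ∀ z : K, ∃ s t : ℕ, ∃ l ∈ L, z = c₁ ^ s * c₂ ^ t * l) :
    ∃ π : Multiplicative (ZMod n × ZMod d × ZMod d) →* K, Function.Surjective π := by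
  obtain ⟨π₀, hπ₀⟩ := exists_surj_of_card_dvd (K := L)
    (fun x y => Subtype.ext (hK x.1 y.1)) hn hL
  let π : Multiplicative (ZMod n × ZMod d × ZMod d) → K := fun x =>
    ((π₀ (Multiplicative.ofAdd (Multiplicative.toAdd x).1) : L) : K) *
      homOf d c₁ hd₁ (Multiplicative.ofAdd (Multiplicative.toAdd x).2.1) *
      homOf d c₂ hd₂ (Multiplicative.ofAdd (Multiplicative.toAdd x).2.2)
  have hmul : ∀ x y, π (x * y) = π x * π y := by
    intro x y
    have e1 : (Multiplicative.toAdd (x * y)).1 = (Multiplicative.toAdd x).1 + (Multiplicative.toAdd y).1 := rfl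
    have e2 : (Multiplicative.toAdd (x * y)).2.1 = (Multiplicative.toAdd x).2.1 + (Multiplicative.toAdd y).2.1 := rfl
    have e3 : (Multiplicative.toAdd (x * y)).2.2 = (Multiplicative.toAdd x).2.2 + (Multiplicative.toAdd y).2.2 := rfl
    simp only [π, e1, e2, e3, ofAdd_add, map_mul, Subgroup.coe_mul]
    set a := ((π₀ (Multiplicative.ofAdd (Multiplicative.toAdd x).1) : L) : K)
    set a' := ((π₀ (Multiplicative.ofAdd (Multiplicative.toAdd y).1) : L) : K)
    set b := homOf d c₁ hd₁ (Multiplicative.ofAdd (Multiplicative.toAdd x).2.1)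
    set b' := homOf d c₁ hd₁ (Multiplicative.ofAdd (Multiplicative.toAdd y).2.1)
    set c := homOf d c₂ hd₂ (Multiplicative.ofAdd (Multiplicative.toAdd x).2.2)
    set c' := homOf d c₂ hd₂ (Multiplicative.ofAdd (Multiplicative.toAdd y).2.2)
    calc a * a' * (b * b') * (c * c') = a * (a' * b) * b' * (c * c') := by group
      _ = a * (b * a') * b' * (c * c') := by rw [hK a' b]
      _ = a * b * (a' * b') * (c * c') := by group
      _ = a * b * ((a' * b') * c) * c' := by group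
      _ = a * b * (c * (a' * b')) * c' := by rw [hK _ c]
      _ = a * b * c * (a' * b' * c') := by group
  have hone : π 1 = 1 := by
    have h := hmul 1 1
    rw [mul_one] at h
    exact (mul_eq_left.mp h.symm)
  refine ⟨⟨⟨π, hone⟩, hmul⟩, ?_⟩
  intro z
  obtain ⟨s, t, l, hl, rfl⟩ := hall z
  obtain ⟨u, hu⟩ := hπ₀ ⟨l, hl⟩
  refine ⟨Multiplicative.ofAdd (Multiplicative.toAdd u, ((s : ZMod d), (t : ZMod d))), ?_⟩
  show ((π₀ (Multiplicative.ofAdd (Multiplicative.toAdd u)) : L) : K) *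
      homOf d c₁ hd₁ (Multiplicative.ofAdd (s : ZMod d)) *
      homOf d c₂ hd₂ (Multiplicative.ofAdd (t : ZMod d)) = _
  rw [homOf_natCast, homOf_natCast]
  have e : (π₀ (Multiplicative.ofAdd (Multiplicative.toAdd u)) : L) = ⟨l, hl⟩ := hu
  rw [e]
  show l * c₁ ^ s * c₂ ^ t = c₁ ^ s * c₂ ^ t * l
  rw [mul_assoc, hK l]

/-- The conclusion of the reduction, as a surjection. -/
theorem exists_surj_of_stem {Γ : Type u} {G : Type v} [Group Γ] [Group G] [Finite Γ] {σ : Γ →* G}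
    (hσ : IsStemExtension σ) {E m d n : ℕ} (hcop : Nat.Coprime E m) (hcard : Nat.card G = E * m)
    (hG : commutator G = ⊤) (hn : Squarefree n)
    (hodd : ∀ (p : ℕ) [Fact p.Prime], p ∣ m → ∃ S : Sylow p G, StemBound.{u} (S : Subgroup G) n)
    (H2 : ∀ (Y : Type u) [Group Y] [Finite Y] (f : Y →* G), Function.Surjective f → f.ker ≤ center Y →
      commutator Y = ⊤ → (∀ x ∈ f.ker, x ^ E = 1) →
      ∃ c₁ ∈ f.ker, ∃ c₂ ∈ f.ker, c₁ ^ d = 1 ∧ c₂ ^ d = 1 ∧ ∀ x ∈ f.ker, ∃ s t : ℕ, x = c₁ ^ s * c₂ ^ t) :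
    ∃ π : Multiplicative (ZMod n × ZMod d × ZMod d) →* σ.ker, Function.Surjective π := by
  obtain ⟨c₁, hc₁, c₂, hc₂, hd₁, hd₂, hall⟩ := reduce hσ hcop hcard hG H2
  set L := powKer σ hσ.2.1 m with hL
  have hLk : L ≤ σ.ker := fun x hx => hx.1
  have hcardL : Nat.card L ∣ n := by
    refine card_sub_dvd hσ L hLk n hn.ne_zero ?_
    intro p _ hp
    apply hodd p
    refine prime_dvd_of_card (L := L) (fun x => Subtype.ext x.2.2) hp
  let L' : Subgroup σ.ker := L.subgroupOf σ.ker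
  have hcardL' : Nat.card L' ∣ n := by
    have h1 : Nat.card L' = Nat.card L := by
      exact Nat.card_congr (Subgroup.subgroupOfEquivOfLe hLk).toEquiv
    rw [h1]
    exact hcardL
  refine exists_surj (fun x y => Subtype.ext (mem_center_iff.mp (hσ.2.1 y.2) x.1)) ⟨c₁, hc₁⟩ ⟨c₂, hc₂⟩
    (Subtype.ext hd₁) (Subtype.ext hd₂) L' hn hcardL' ?_
  rintro ⟨z, hz⟩
  obtain ⟨s, t, l, hl, h⟩ := hall z hz
  refine ⟨s, t, ⟨l, hl.1⟩, ?_, Subtype.ext h⟩
  exact hl

theorem evalW_replicate {Y : Type*} [Group Y] (gen : ℕ → Y) (g n : ℕ) :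
    evalW gen (List.replicate n g) = gen g ^ n := by
  induction n with
  | zero => simp [evalW]
  | succ n ih =>
    rw [List.replicate_succ, evalW, ih, pow_succ]

/-- A lift of exact order. -/
theorem exists_lift {Y G : Type*} [Group Y] [Group G] (f : Y →* G) (hf : Function.Surjective f) {M o : ℕ}
    (hM : ∀ x ∈ f.ker, x ^ M = 1) (hc : Nat.Coprime o M) {g : G} (hg : g ^ o = 1) :
    ∃ y : Y, f y = g ∧ y ^ o = 1 := by
  obtain ⟨y, rfl⟩ := hf g
  obtain ⟨e, he1, he2⟩ : ∃ e, e ≡ 1 [MOD o] ∧ M ∣ e := by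
    refine ⟨Nat.chineseRemainder hc 1 0, (Nat.chineseRemainder hc 1 0).2.1, ?_⟩
    exact (Nat.modEq_zero_iff_dvd).1 (Nat.chineseRemainder hc 1 0).2.2
  refine ⟨y ^ e, ?_, ?_⟩
  · rw [map_pow]
    have h1 : (f y) ^ e = (f y) ^ 1 := by
      apply pow_eq_pow_iff_modEq.mpr
      exact Nat.ModEq.of_dvd (orderOf_dvd_of_pow_eq_one hg) he1
    rw [pow_one] at h1
    exact h1
  · obtain ⟨t, ht⟩ := he2
    have h2 : y ^ o ∈ f.ker := by
      rw [MonoidHom.mem_ker, map_pow, hg]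
    have e3 : M * t * o = o * M * t := by ring
    rw [ht, ← pow_mul, e3, pow_mul, pow_mul, hM _ h2, one_pow]

/-- **The bound** in terms of a group with a Cayley graph. -/
theorem bound {nV nR M : ℕ} {nx : ℕ → ℕ → ℕ} {par dat : ℕ → ℕ} {rel : ℕ → List ℕ} {p0 p1 p2 p3 : ℕ}
    (C : Cert nV nR M nx par dat rel p0 p1 p2 p3) {G : Type*} [Group G] (gG F : ℕ → G) (hF0 : F 0 = 1)
    (hedge : ∀ v g, v < nV → g < 2 → F (nx v g) = gG g * F v) (hinj : ∀ v, v < nV → F v = 1 → v = 0)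
    (hgen : closure {gG 0, gG 1} = ⊤) {o₀ o₁ : ℕ} (hr0 : rel 0 = List.replicate o₀ 0)
    (hr1 : rel 1 = List.replicate o₁ 1) (hc₀ : Nat.Coprime o₀ M) (hc₁ : Nat.Coprime o₁ M)
    (hg₀ : gG 0 ^ o₀ = 1) (hg₁ : gG 1 ^ o₁ = 1)
    {Y : Type*} [Group Y] [Finite Y] (f : Y →* G) (hf : Function.Surjective f) (hK : f.ker ≤ center Y)
    (hp : commutator Y = ⊤) (hM : ∀ x ∈ f.ker, x ^ M = 1) :
    ∃ q : Fin 4 → Y, (∀ i, q i ∈ f.ker) ∧
      (∀ x ∈ f.ker, ∃ a b c d : ℕ, x = q 0 ^ a * q 1 ^ b * q 2 ^ c * q 3 ^ d) ∧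
      (∀ v j, v < nV → j < nR → wEnd nx (rel j) v = v →
        q 0 ^ (wSum nx (fun y => fld 0 (dat y)) (rel j) v) * q 1 ^ (wSum nx (fun y => fld 1 (dat y)) (rel j) v) *
          q 2 ^ (wSum nx (fun y => fld 2 (dat y)) (rel j) v) * q 3 ^ (wSum nx (fun y => fld 3 (dat y)) (rel j) v) =
        q 0 ^ fld 0 (dat (2 * nV + j)) * q 1 ^ fld 1 (dat (2 * nV + j)) * q 2 ^ fld 2 (dat (2 * nV + j)) *
          q 3 ^ fld 3 (dat (2 * nV + j))) := by
  obtain ⟨y₀, hy₀, hy₀'⟩ := exists_lift f hf hM hc₀ hg₀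
  obtain ⟨y₁, hy₁, hy₁'⟩ := exists_lift f hf hM hc₁ hg₁
  let gen : ℕ → Y := fun g => if g = 0 then y₀ else y₁
  have hg0 : gen 0 = y₀ := rfl
  have hg1 : gen 1 = y₁ := rfl
  have hgenf : ∀ g, g < 2 → f (gen g) = gG g := by
    intro g hg
    have hg' : g = 0 ∨ g = 1 := by omega
    rcases hg' with rfl | rfl
    · rw [hg0, hy₀]
    · rw [hg1, hy₁]
  have htop : closure {gen 0, gen 1} = ⊤ := by
    apply eq_top_of_sup_central hp _ f.ker hK
    have h2 := closure_lifts_eq_top f hf hgen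
      (t := {gen 0, gen 1} ∪ (f.ker : Set Y)) (by
        rintro x (rfl | rfl)
        · exact ⟨gen 0, Or.inl (Set.mem_insert _ _), hgenf 0 (by decide)⟩
        · exact ⟨gen 1, Or.inl (Set.mem_insert_of_mem _ rfl), hgenf 1 (by decide)⟩)
      Set.subset_union_right
    rw [Subgroup.closure_union, Subgroup.closure_eq] at h2
    exact h2
  have hpar : ∀ v, 0 < v → v < nV → parV par v < v := fun v h0 hv => (C.tree v h0 hv).1
  have hX : ∀ v, 0 < v → v < nV → F v = gG (pgV par v) * F (parV par v) := by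
    intro v h0 hv
    obtain ⟨h1, h2⟩ := C.tree v h0 hv
    have h3 := hedge (parV par v) (pgV par v) (by omega) (pgV_lt par v)
    rw [h2] at h3
    exact h3
  have htT : ∀ v, v < nV → f (tT par gen v) = F v := fun v hv => map_tT par gen f F gG hF0 hpar hX hgenf v hv
  apply main C gen f.ker hK hM
  · rw [hr0, evalW_replicate, hg0, hy₀']
  · rw [hr1, evalW_replicate, hg1, hy₁']
  · exact htop
  · intro v hv g hg
    rw [MonoidHom.mem_ker]
    unfold kE
    rw [map_mul, map_mul, map_inv, hgenf g hg, htT v hv, htT _ (C.nx_lt v g hv hg), hedge v g hv hg, mul_inv_cancel]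
  · intro v hv h2
    rw [MonoidHom.mem_ker, htT v hv] at h2
    exact hinj v hv h2

/-! ### Linear algebra in the kernel -/

section Psi

variable {K : Type*} [CommGroup K] (a b c d : K)

/-- The evaluation of four exponents. -/
def psi : (ℤ × ℤ × ℤ × ℤ) →+ Additive K where
  toFun v := Additive.ofMul (a ^ v.1 * b ^ v.2.1 * c ^ v.2.2.1 * d ^ v.2.2.2)
  map_zero' := by
    show Additive.ofMul (a ^ (0 : ℤ) * b ^ (0 : ℤ) * c ^ (0 : ℤ) * d ^ (0 : ℤ)) = 0
    simp
  map_add' := by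
    intro v w
    show Additive.ofMul (a ^ (v.1 + w.1) * b ^ (v.2.1 + w.2.1) * c ^ (v.2.2.1 + w.2.2.1) * d ^ (v.2.2.2 + w.2.2.2)) =
      Additive.ofMul (a ^ v.1 * b ^ v.2.1 * c ^ v.2.2.1 * d ^ v.2.2.2 * (a ^ w.1 * b ^ w.2.1 * c ^ w.2.2.1 * d ^ w.2.2.2))
    congr 1
    simp only [zpow_add]
    simp only [mul_assoc, mul_left_comm, mul_comm]

theorem mem_psi_ker {x y z w : ℤ} : (x, y, z, w) ∈ (psi a b c d).ker ↔ a ^ x * b ^ y * c ^ z * d ^ w = 1 := by
  rw [AddMonoidHom.mem_ker]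
  exact Iff.rfl

theorem rel_mem {A B C D A' B' C' D' : ℕ}
    (h : a ^ A * b ^ B * c ^ C * d ^ D = a ^ A' * b ^ B' * c ^ C' * d ^ D') :
    (((A : ℤ) - A', (B : ℤ) - B', (C : ℤ) - C', (D : ℤ) - D') : ℤ × ℤ × ℤ × ℤ) ∈ (psi a b c d).ker := by
  rw [mem_psi_ker]
  simp only [zpow_sub, zpow_natCast]
  have h2 : a ^ A * (a ^ A')⁻¹ * (b ^ B * (b ^ B')⁻¹) * (c ^ C * (c ^ C')⁻¹) * (d ^ D * (d ^ D')⁻¹) =
      (a ^ A * b ^ B * c ^ C * d ^ D) * (a ^ A' * b ^ B' * c ^ C' * d ^ D')⁻¹ := by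
    simp only [mul_inv_rev, mul_assoc, mul_left_comm, mul_comm]
  rw [h2, h, mul_inv_cancel]

end Psi

/-- A group of order `p²` with the bound of an elementary abelian group. -/
theorem stemBound_of_card_sq {T : Type v} [Group T] {p : ℕ} [hp : Fact p.Prime] (hT : Nat.card T = p ^ 2) :
    StemBound.{u} T p := by
  have : Finite T := Nat.finite_of_card_ne_zero (by rw [hT]; exact pow_ne_zero _ hp.out.ne_zero)
  by_cases hcyc : IsCyclic T
  · exact (StemBound.of_isCyclic (T := T)).mono (one_dvd _)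
  have hcomm : ∀ x y : T, x * y = y * x := by
    have h := IsPGroup.isMulCommutative_of_card_eq_prime_sq hT
    exact fun x y => mul_comm' x y
  have hord : ∀ x : T, x ^ p = 1 := by
    intro x
    have h1 : orderOf x ∣ p ^ 2 := hT ▸ orderOf_dvd_natCard x
    obtain ⟨j, hj, hj'⟩ := (Nat.dvd_prime_pow hp.out).1 h1
    have hj2 : j ≠ 2 := by
      rintro rfl
      exact hcyc (isCyclic_of_orderOf_eq_card x (by rw [hj', hT]))
    have hj3 : j ≤ 1 := by omega
    apply orderOf_dvd_iff_pow_eq_one.mp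
    rw [hj']
    exact (pow_dvd_pow p hj3).trans (by rw [pow_one])
  -- choose generators
  obtain ⟨a, ha⟩ : ∃ a : T, a ≠ 1 := by
    by_contra h
    push Not at h
    have : Subsingleton T := ⟨fun x y => by rw [h x, h y]⟩
    have h1 := Nat.card_of_subsingleton (1 : T)
    rw [hT] at h1
    have := hp.out.one_lt
    have h2 : 1 < p ^ 2 := Nat.one_lt_pow (by norm_num) this
    omega
  have hZ : Nat.card (zpowers a) = p := by
    rw [Nat.card_zpowers]
    exact orderOf_eq_prime (hord a) ha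
  obtain ⟨b, hb⟩ : ∃ b : T, b ∉ zpowers a := by
    by_contra h
    push Not at h
    have h1 : zpowers a = ⊤ := eq_top_iff.mpr (fun x _ => h x)
    rw [h1, Nat.card_congr topEquiv.toEquiv, hT] at hZ
    have h2 : p ^ 2 = p ^ 1 := by rw [hZ, pow_one]
    have := Nat.pow_right_injective hp.out.two_le h2
    omega
  have hgen : closure ({a, b} : Set T) = ⊤ := by
    set H := closure ({a, b} : Set T) with hH
    have h1 : zpowers a ≤ H := by
      rw [zpowers_le]
      exact subset_closure (Set.mem_insert _ _)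
    have h2 : b ∈ H := subset_closure (Set.mem_insert_of_mem _ rfl)
    have h3 : Nat.card H ∣ p ^ 2 := hT ▸ Subgroup.card_subgroup_dvd_card H
    obtain ⟨j, hj, hj'⟩ := (Nat.dvd_prime_pow hp.out).1 h3
    have h4 : p ∣ Nat.card H := by
      rw [← hZ]
      exact Subgroup.card_dvd_of_le h1
    have hj2 : j = 2 := by
      by_contra hne
      have hj1 : j ≠ 0 := by
        rintro rfl
        rw [hj', pow_zero] at h4
        exact hp.out.one_lt.ne' (Nat.dvd_one.mp h4)
      have hj3 : j = 1 := by omega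
      rw [hj3, pow_one] at hj'
      have h5 : Nat.card (zpowers a) = Nat.card H := by rw [hZ, hj']
      have h6 : zpowers a = H := Subgroup.eq_of_le_of_card_ge h1 h5.ge
      exact hb (h6 ▸ h2)
    apply Subgroup.eq_top_of_card_eq
    rw [hj', hj2, hT]
  refine StemBound.of_comm hgen ?_ (hord a)
  rw [hcomm b a, mul_inv_cancel_right]

/-- A Sylow subgroup of prime order or of order the square of a prime. -/
theorem sylow_bound {G : Type v} [Group G] [Finite G] {p n : ℕ} [hp : Fact p.Prime] (hG : Nat.card G ≠ 0)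
    (h : (¬ p ^ 2 ∣ Nat.card G) ∨ (n = p ∧ ¬ p ^ 3 ∣ Nat.card G)) (hn : n ≠ 0) :
    ∃ S : Sylow p G, StemBound.{u} (S : Subgroup G) n := by
  obtain ⟨S⟩ : Nonempty (Sylow p G) := inferInstance
  refine ⟨S, ?_⟩
  have hS := Sylow.card_eq_multiplicity S
  rcases h with h | ⟨hnp, h⟩
  · have h1 : (Nat.card G).factorization p < 2 := by
      by_contra h2
      exact h ((hp.out.pow_dvd_iff_le_factorization hG).2 (by omega))
    have h3 : IsCyclic (S : Subgroup G) := by
      have h4 : (Nat.card G).factorization p = 0 ∨ (Nat.card G).factorization p = 1 := by omega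
      rcases h4 with h4 | h4
      · rw [h4, pow_zero] at hS
        have : Subsingleton (S : Subgroup G) := (Nat.card_eq_one_iff_unique.mp hS).1
        exact isCyclic_of_subsingleton
      · rw [h4, pow_one] at hS
        exact isCyclic_of_prime_card hS
    exact (StemBound.of_isCyclic (T := (S : Subgroup G))).mono (one_dvd _)
  · have e : p = n := hnp.symm
    subst e
    have h1 : (Nat.card G).factorization p < 3 := by
      by_contra h2
      exact h ((hp.out.pow_dvd_iff_le_factorization hG).2 (by omega))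
    have h4 : (Nat.card G).factorization p = 0 ∨ (Nat.card G).factorization p = 1 ∨
      (Nat.card G).factorization p = 2 := by omega
    rcases h4 with h4 | h4 | h4
    · rw [h4, pow_zero] at hS
      have : Subsingleton (S : Subgroup G) := (Nat.card_eq_one_iff_unique.mp hS).1
      have : IsCyclic (S : Subgroup G) := isCyclic_of_subsingleton
      exact (StemBound.of_isCyclic (T := (S : Subgroup G))).mono (one_dvd _)
    · rw [h4, pow_one] at hS
      have : IsCyclic (S : Subgroup G) := isCyclic_of_prime_card hS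
      exact (StemBound.of_isCyclic (T := (S : Subgroup G))).mono (one_dvd _)
    · rw [h4] at hS
      exact stemBound_of_card_sq hS

end Cfsg.Agent.Lib.SchurCert.Upper
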